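import Cfsg.Agent.Screen.CosetEnum.HeS44.Data

/-!
# Checking the table
-/

set_option autoImplicit false
set_option maxRecDepth 20000

namespace Cfsg.Agent.Screen.CosetEnum.HeS44

open Cfsg.Agent.Screen.CosetEnum

set_option Elab.async false

theorem fcheck0 : blocks tbl.toCert 80 0 = true := by decide +kernel

theorem fcheck1 : blocks tbl.toCert 80 80 = true := by decide +kernel

theorem fcheck2 : blocks tbl.toCert 80 160 = true := by decide +kernel

theorem fcheck3 : blocks tbl.toCert 80 240 = true := by decide +kernel

theorem fcheck4 : blocks tbl.toCert 80 320 = true := by decide +kernel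

theorem fcheck5 : blocks tbl.toCert 80 400 = true := by decide +kernel

theorem fcheck6 : blocks tbl.toCert 80 480 = true := by decide +kernel

theorem fcheck7 : blocks tbl.toCert 80 560 = true := by decide +kernel

end Cfsg.Agent.Screen.CosetEnum.HeS44
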